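import Groth.Agent.Lib.MonoFact19.Basic
import Groth.Agent.Lib.SchBasic.Basic
import Groth.Agent.Lib.FppfSource.Scheme
import Groth.Agent.Lib.AlgGrpBasic19.Basic
import Groth.Agent.Lib.SubGrp13.Basic

/-!
# Orbit maps with flat stabilizer
-/

set_option autoImplicit false
set_option linter.style.haveILetI false
set_option backward.isDefEq.respectTransparency.types false
universe u

open CategoryTheory CategoryTheory.Limits MonoidalCategory CartesianMonoidalCategory MonObj AlgebraicGeometry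

noncomputable section

namespace Groth.Agent.OrbitQuot19

variable {S : Scheme.{u}} {G X : Over S} [GrpObj G]

theorem isPullback_forget {A B C D : Over S} {f : A ⟶ B} {g : A ⟶ C} {h : B ⟶ D} {k : C ⟶ D}
    (sq : IsPullback f g h k) : IsPullback f.left g.left h.left k.left := sq.map (Over.forget S)

/-- A morphism over `S` with flat kernel pair is a flat cover followed by a monomorphism. -/
theorem exists_factor_over {X : Over S} {A : Over S} [LocallyOfFinitePresentation A.hom] [LocallyOfFiniteType X.hom]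
    (o : A ⟶ X) (hfl : Flat (pullback.fst o.left o.left)) :
    ∃ (Q : Over S) (p : A ⟶ Q) (i : Q ⟶ X), p ≫ i = o ∧ Surjective p.left ∧ Flat p.left ∧
      LocallyOfFinitePresentation p.left ∧ Mono i ∧ LocallyOfFinitePresentation Q.hom := by
  haveI : LocallyOfFinitePresentation (o.left ≫ X.hom) := by rw [Over.w o]; infer_instance
  haveI : LocallyOfFinitePresentation o.left := SchBasic.locallyOfFinitePresentation_of_comp o.left X.hom
  haveI := hfl
  obtain ⟨X', f', f'', h1, h2, h3, h4, e⟩ := MonoFact19.exists_factor o.left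
  haveI := h1; haveI := h2; haveI := h3; haveI := h4
  have hp : f' ≫ f'' ≫ X.hom = A.hom := by rw [reassoc_of% e, Over.w o]
  let i : Over.mk (f'' ≫ X.hom) ⟶ X := Over.homMk f''
  have hi : Mono i := ⟨fun a b h => Over.OverMorphism.ext ((cancel_mono f'').1 (congrArg CommaMorphism.left h))⟩
  refine ⟨Over.mk (f'' ≫ X.hom), Over.homMk f' hp, i, Over.OverMorphism.ext e, h1, h2, h3, hi, ?_⟩
  haveI : LocallyOfFinitePresentation (f' ≫ f'' ≫ X.hom) := by rw [hp]; infer_instance
  exact FppfSource.locallyOfFinitePresentation_of_fppf_comp f' (f'' ≫ X.hom)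

variable (a : AlgGrp.Action G X) (ξ : 𝟙_ (Over S) ⟶ X)

theorem comp_orbitMap {T : Over S} (g : T ⟶ G) : g ≫ a.orbitMap ξ = lift g (toUnit T ≫ ξ) ≫ a.act := by
  rw [AlgGrp.Action.orbitMap, ← Category.assoc, comp_lift, Category.comp_id, ← Category.assoc, comp_toUnit]

theorem orbit_mul {T : Over S} (g h : T ⟶ G) :
    (g * h) ≫ a.orbitMap ξ = lift g (h ≫ a.orbitMap ξ) ≫ a.act := by
  rw [comp_orbitMap, comp_orbitMap, AlgGrpBasic19.act_mul]

theorem orbit_mul_stab {T : Over S} (g : T ⟶ G) (h : T ⟶ pullback (a.orbitMap ξ) ξ) :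
    (g * (h ≫ pullback.fst (a.orbitMap ξ) ξ)) ≫ a.orbitMap ξ = g ≫ a.orbitMap ξ := by
  rw [orbit_mul, comp_orbitMap a ξ g, Category.assoc, pullback.condition, ← Category.assoc h]
  congr 3
  exact toUnit_unique _ _

theorem inv_mul_orbit {T : Over S} (g₁ g₂ : T ⟶ G) (e : g₁ ≫ a.orbitMap ξ = g₂ ≫ a.orbitMap ξ) :
    (g₂⁻¹ * g₁) ≫ a.orbitMap ξ = toUnit T ≫ ξ := by
  rw [orbit_mul, e, ← orbit_mul, inv_mul_cancel, comp_orbitMap, AlgGrpBasic19.act_one]

/-- The kernel pair of the orbit map. -/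
theorem isPullback_orbitMap :
    IsPullback ((G ◁ pullback.fst (a.orbitMap ξ) ξ) ≫ μ[G]) (fst G (pullback (a.orbitMap ξ) ξ))
      (a.orbitMap ξ) (a.orbitMap ξ) := by
  set H := pullback (a.orbitMap ξ) ξ
  set ιH := pullback.fst (a.orbitMap ξ) ξ
  have hmul : ∀ {T : Over S} (x : T ⟶ G ⊗ H), x ≫ (G ◁ ιH) ≫ μ[G] = (x ≫ fst G H) * (x ≫ snd G H ≫ ιH) := by
    intro T x
    rw [MonObj.mul_eq_mul, MonObj.comp_mul, MonObj.comp_mul, whiskerLeft_fst, whiskerLeft_snd]
  refine ⟨⟨?_⟩, ⟨PullbackCone.IsLimit.mk _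
    (fun c => lift c.snd (pullback.lift (c.snd⁻¹ * c.fst) (toUnit _) (inv_mul_orbit a ξ c.fst c.snd c.condition)))
    (fun c => ?_) (fun c => lift_fst _ _) (fun c m h1 h2 => ?_)⟩⟩
  · have := hmul (𝟙 (G ⊗ H))
    rw [Category.id_comp, Category.id_comp, Category.id_comp] at this
    rw [this]
    exact orbit_mul_stab a ξ (fst G H) (snd G H)
  · rw [hmul, lift_fst, lift_snd_assoc, pullback.lift_fst, mul_inv_cancel_left]
  · apply CartesianMonoidalCategory.hom_ext
    · rw [lift_fst, h2]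
    · rw [lift_snd]
      refine pullback.hom_ext ?_ (toUnit_unique _ _)
      rw [pullback.lift_fst, ← h1, hmul, h2, inv_mul_cancel_left, Category.assoc]

theorem flat_fst_orbitMap (hH : Flat (pullback (a.orbitMap ξ) ξ).hom) :
    Flat (pullback.fst (a.orbitMap ξ).left (a.orbitMap ξ).left) := by
  have sq := isPullback_forget (isPullback_orbitMap a ξ)
  haveI h1 : Flat (fst G (pullback (a.orbitMap ξ) ξ)).left :=
    MorphismProperty.of_isPullback (P := @Flat) (IsPullback.of_hasPullback G.hom (pullback (a.orbitMap ξ) ξ).hom).flip hH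
  haveI h2 : Flat (pullback.snd (a.orbitMap ξ).left (a.orbitMap ξ).left) := by
    rw [← sq.isoPullback_inv_snd]; infer_instance
  rw [← pullbackSymmetry_hom_comp_snd]
  infer_instance

theorem exists_quotient [LocallyOfFinitePresentation G.hom] [LocallyOfFiniteType X.hom]
    (hH : Flat (pullback (a.orbitMap ξ) ξ).hom) :
    ∃ (Q : Over S) (p : G ⟶ Q) (i : Q ⟶ X), p ≫ i = a.orbitMap ξ ∧
      Surjective p.left ∧ Flat p.left ∧ LocallyOfFinitePresentation p.left ∧ Mono i ∧
      LocallyOfFinitePresentation Q.hom ∧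
      IsPullback ((G ◁ pullback.fst (a.orbitMap ξ) ξ) ≫ μ[G]) (fst G (pullback (a.orbitMap ξ) ξ)) p p := by
  obtain ⟨Q, p, i, e, h1, h2, h3, h4, h5⟩ := exists_factor_over (a.orbitMap ξ) (flat_fst_orbitMap a ξ hH)
  haveI := h4
  have sq := isPullback_orbitMap a ξ
  refine ⟨Q, p, i, e, h1, h2, h3, h4, h5, ⟨⟨?_⟩, ⟨PullbackCone.IsLimit.mk _
    (fun c => sq.lift c.fst c.snd (by rw [← e, ← Category.assoc, c.condition, Category.assoc]))
    (fun c => sq.lift_fst _ _ _) (fun c => sq.lift_snd _ _ _)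
    (fun c m k1 k2 => sq.hom_ext (k1.trans (sq.lift_fst _ _ _).symm) (k2.trans (sq.lift_snd _ _ _).symm))⟩⟩⟩
  rw [← cancel_mono i]
  simpa only [Category.assoc, e] using sq.w

end Groth.Agent.OrbitQuot19
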